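import Groth.Prelude.Def_AnCl
import Mathlib.CategoryTheory.Sites.DenseSubsite.SheafEquiv
import Mathlib.Algebra.Category.Grp.Limits

/-!
# The opens of a space form a dense subsite of its site of local homeomorphisms
-/

set_option autoImplicit false
universe u

open CategoryTheory TopologicalSpace Topology Opposite Limits

namespace Groth.Agent.AnTop

variable (T : Type u) [TopologicalSpace T]

instance : (An.opensToCl T).Full where
  map_surjective {U V} f := ⟨homOfLE fun x hx => by
    have := f.over ⟨x, hx⟩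
    exact (show (f.toFun ⟨x, hx⟩).1 = x from this) ▸ (f.toFun ⟨x, hx⟩).2,
    An.Cl.hom_ext (funext fun a => Subtype.ext (f.over a).symm)⟩

instance : (An.opensToCl T).Faithful where
  map_injective _ := Subsingleton.elim _ _

instance isCoverDense : (An.opensToCl T).IsCoverDense (An.Cl.topology T) where
  is_cover A := fun a => by
    obtain ⟨W, haW, hW⟩ := isLocalHomeomorph_iff_isOpenEmbedding_restrict.1 A.lh a
    obtain ⟨W', hW'sub, hW'o, ha'⟩ := mem_nhds_iff.1 haW
    have hemb : IsOpenEmbedding (fun w : W' => A.p w) := by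
      have h1 : IsOpenEmbedding (Set.inclusion hW'sub) :=
        ⟨IsEmbedding.inclusion hW'sub, by rw [Set.range_inclusion hW'sub]; exact hW'o.preimage continuous_subtype_val⟩
      exact hW.comp h1
    let V : Opens T := ⟨Set.range (fun w : W' => A.p w), hemb.isOpen_range⟩
    let g : (An.opensToCl T).obj V ⟶ A :=
      ⟨fun v => ((hemb.isEmbedding.toHomeomorph.symm ⟨v.1, v.2⟩ : W') : A.E),
        continuous_subtype_val.comp (hemb.isEmbedding.toHomeomorph.symm.continuous.comp
          (Continuous.subtype_mk continuous_subtype_val _)),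
        fun v => congrArg Subtype.val (hemb.isEmbedding.toHomeomorph.apply_symm_apply ⟨v.1, v.2⟩)⟩
    refine ⟨_, g, Presieve.in_coverByImage _ g, ?_, ⟨⟨A.p a, ⟨a, ha'⟩, rfl⟩, ?_⟩⟩
    · exact hW'o.isOpenEmbedding_subtypeVal.comp hemb.isEmbedding.toHomeomorph.symm.isOpenEmbedding
    · exact congrArg Subtype.val (hemb.isEmbedding.toHomeomorph.symm_apply_apply ⟨a, ha'⟩)

instance isDenseSubsite :
    (An.opensToCl T).IsDenseSubsite (Opens.grothendieckTopology T) (An.Cl.topology T) where
  functorPushforward_mem_iff {U S} := by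
    constructor
    · intro h x hx
      obtain ⟨B, g, ⟨V, k, l, hk, rfl⟩, -, b, hb⟩ := h ⟨x, hx⟩
      refine ⟨V, k, hk, ?_⟩
      have : (l.toFun b).1 = x := congrArg Subtype.val hb
      exact this ▸ (l.toFun b).2
    · intro h a
      obtain ⟨V, k, hk, ha⟩ := h a.1 a.2
      refine ⟨_, (An.opensToCl T).map k, ⟨V, k, 𝟙 _, hk, (Category.id_comp _).symm⟩, ?_, ⟨⟨a.1, ha⟩, rfl⟩⟩
      exact IsOpenEmbedding.of_comp _ U.2.isOpenEmbedding_subtypeVal V.2.isOpenEmbedding_subtypeVal

theorem isEquivalence_resOpens [An.OpCont T] : (An.resOpens T).IsEquivalence := by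
  infer_instance

end Groth.Agent.AnTop
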